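import Mathlib

set_option autoImplicit false

/-! Automorphisms stabilizing a chain of subgroups of a finite `p`-group have `p`-power order
(self-contained copy of two lemmas of `Lib/Helper26/FusStab.lean`, to keep imports light). -/

namespace Cfsg.Agent.Lib.Helper12.ChainStab

universe u

variable {P : Type u} [Group P]

theorem pow_fix_step (β : MulAut P) (M N : Subgroup P) [Finite N]
    (hM : ∀ x ∈ M, β x ∈ M) (hMN : ∀ x ∈ M, x⁻¹ * β x ∈ N) (k : ℕ)
    (hk : ∀ x ∈ N, (β ^ k) x = x) : ∀ x ∈ M, (β ^ (k * Nat.card N)) x = x := by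
  have h1 : ∀ j : ℕ, ∀ x ∈ M, (β ^ j) x ∈ M ∧ x⁻¹ * (β ^ j) x ∈ N := by
    intro j
    induction j with
    | zero =>
      intro x hx
      simp [hx]
    | succ j ih =>
      intro x hx
      obtain ⟨h2, h3⟩ := ih x hx
      rw [pow_succ', MulAut.mul_apply]
      refine ⟨hM _ h2, ?_⟩
      have h6 : x⁻¹ * β ((β ^ j) x) = (x⁻¹ * (β ^ j) x) * (((β ^ j) x)⁻¹ * β ((β ^ j) x)) := by
        group
      rw [h6]
      exact N.mul_mem h3 (hMN _ h2)
  intro x hx
  have hn := (h1 k x hx).2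
  have h4 : ∀ j : ℕ, ((β ^ k) ^ j) x = x * (x⁻¹ * (β ^ k) x) ^ j := by
    intro j
    induction j with
    | zero => simp
    | succ j ih =>
      rw [pow_succ', MulAut.mul_apply, ih, map_mul, map_pow, hk _ hn, pow_succ', ← mul_assoc,
        mul_inv_cancel_left]
  rw [pow_mul, h4]
  have h5 : (x⁻¹ * (β ^ k) x) ^ Nat.card N = 1 := by
    have h7 := pow_card_eq_one' (G := N) (x := ⟨_, hn⟩)
    have h8 : (((⟨_, hn⟩ : ↥N) ^ Nat.card N : ↥N) : P) = ((1 : ↥N) : P) :=
      congrArg (fun z : ↥N => (z : P)) h7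
    rw [Subgroup.coe_pow, Subgroup.coe_one] at h8
    exact h8
  rw [h5, mul_one]

theorem exists_pow_eq_one_of_chain [Finite P] {p : ℕ} [Fact p.Prime] (hP : IsPGroup p P)
    (β : MulAut P) (N : ℕ → Subgroup P) (m : ℕ) (h0 : N 0 = ⊤)
    (hbase : ∃ k : ℕ, ∀ x ∈ N m, (β ^ (p ^ k)) x = x)
    (hstep : ∀ i < m, (∀ x ∈ N i, β x ∈ N i) ∧ (∀ x ∈ N i, x⁻¹ * β x ∈ N (i + 1))) :
    ∃ k : ℕ, β ^ (p ^ k) = 1 := by
  have key : ∀ j ≤ m, ∃ k : ℕ, ∀ x ∈ N (m - j), (β ^ (p ^ k)) x = x := by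
    intro j
    induction j with
    | zero =>
      intro _
      exact hbase
    | succ j ih =>
      intro hj
      obtain ⟨k, hk⟩ := ih (by omega)
      have hi : m - (j + 1) < m := by omega
      have hi' : m - (j + 1) + 1 = m - j := by omega
      obtain ⟨h1, h2⟩ := hstep _ hi
      rw [hi'] at h2
      obtain ⟨b, hb⟩ := IsPGroup.iff_card.mp (hP.to_subgroup (N (m - j)))
      refine ⟨k + b, ?_⟩
      have h3 := pow_fix_step β (N (m - (j + 1))) (N (m - j)) h1 h2 (p ^ k) hk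
      rw [hb, ← pow_add] at h3
      exact h3
  obtain ⟨k, hk⟩ := key m le_rfl
  refine ⟨k, ?_⟩
  apply MulEquiv.ext
  intro x
  have h4 : x ∈ N (m - m) := by
    rw [Nat.sub_self, h0]
    exact Subgroup.mem_top x
  exact hk x h4


end Cfsg.Agent.Lib.Helper12.ChainStab
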