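import Mathlib
import Cfsg.Prelude.Def_LocalEven
import Cfsg.Agent.Lib.Helper9.Cores
import Cfsg.Agent.Lib.Helper12.ChainStab
import Cfsg.Agent.Lib.Helper12.SylowBasic

set_option autoImplicit false

/-! A concrete form of "every section is `p`-stable in the normalizer form", stated inside the
group (no quotient types): `QStab p G`.  It follows from the normalizer form of `p`-stability of
all sections (`qstab_of_sections`), passes to sections (`qstab_section`), and comes with the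
stability lemma `pc_stab` for elements that centralize the factors of a chain modulo `p`-th
powers. -/

namespace Cfsg.Agent.Lib.Helper12.QStab

open Cfsg
open scoped commutatorElement

universe u

/-- concrete form of `p`-stability of all sections of `G`: if `g ∈ K` acts quadratically on the
`p`-section `X / R` of `K`, then `g` lies in a subgroup `D` of `K`, normalized by `K`, each of
whose elements has a `p`-power centralizing `X / R`. -/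
def QStab (p : ℕ) (G : Type*) [Group G] : Prop :=
  ∀ K X R : Subgroup G, R ≤ X → X ≤ K → K ≤ Subgroup.normalizer (R : Set G) →
    K ≤ Subgroup.normalizer (X : Set G) → (∀ x ∈ X, ∃ k : ℕ, x ^ p ^ k ∈ R) →
    ∀ g ∈ K, ⁅⁅X, Subgroup.zpowers g⁆, Subgroup.zpowers g⁆ ≤ R →
    ∃ D : Subgroup G, D ≤ K ∧ K ≤ Subgroup.normalizer (D : Set G) ∧ g ∈ D ∧
      ∀ d ∈ D, ∃ k : ℕ, ∀ x ∈ X, ⁅x, d ^ p ^ k⁆ ∈ R

theorem le_normalizer_of_conj_mem {G : Type*} [Group G] {K D : Subgroup G}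
    (h : ∀ k ∈ K, ∀ d ∈ D, k * d * k⁻¹ ∈ D) : K ≤ Subgroup.normalizer (D : Set G) := by
  intro k hk
  rw [Subgroup.mem_normalizer_iff]
  intro d
  constructor
  · exact h k hk d
  · intro hd
    have h1 := h k⁻¹ (K.inv_mem hk) _ hd
    have e : k⁻¹ * (k * d * k⁻¹) * k⁻¹⁻¹ = d := by group
    rwa [e] at h1

theorem conj_mem_of_le_normalizer {G : Type*} [Group G] {K D : Subgroup G}
    (h : K ≤ Subgroup.normalizer (D : Set G)) {k d : G} (hk : k ∈ K) (hd : d ∈ D) :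
    k * d * k⁻¹ ∈ D :=
  (Subgroup.mem_normalizer_iff.mp (h hk) d).mp hd

theorem mem_pull {G Y : Type*} [Group G] [Group Y] (H : Subgroup G) (f : ↥H →* Y)
    (X' : Subgroup Y) (x : G) :
    x ∈ (X'.comap f).map H.subtype ↔ ∃ h : x ∈ H, f ⟨x, h⟩ ∈ X' := by
  constructor
  · rintro ⟨x₀, hx₀, rfl⟩
    exact ⟨x₀.2, hx₀⟩
  · rintro ⟨h, hx⟩
    exact ⟨⟨x, h⟩, hx, rfl⟩

/-- `QStab` passes to sections. -/
theorem qstab_section {p : ℕ} {G : Type*} [Group G] (hG : QStab p G) {Y : Type*} [Group Y]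
    (H : Subgroup G) (f : ↥H →* Y) (hf : Function.Surjective f) : QStab p Y := by
  intro K' X' R' hRX' hXK' hKR' hKX' hpow' g' hg' hquad'
  obtain ⟨g₀, rfl⟩ := hf g'
  obtain ⟨K, hK⟩ : ∃ K : Subgroup G, K = (K'.comap f).map H.subtype := ⟨_, rfl⟩
  obtain ⟨X, hX⟩ : ∃ X : Subgroup G, X = (X'.comap f).map H.subtype := ⟨_, rfl⟩
  obtain ⟨R, hR⟩ : ∃ R : Subgroup G, R = (R'.comap f).map H.subtype := ⟨_, rfl⟩
  have hmK : ∀ x, x ∈ K ↔ ∃ h : x ∈ H, f ⟨x, h⟩ ∈ K' := by rw [hK]; exact mem_pull H f K'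
  have hmX : ∀ x, x ∈ X ↔ ∃ h : x ∈ H, f ⟨x, h⟩ ∈ X' := by rw [hX]; exact mem_pull H f X'
  have hmR : ∀ x, x ∈ R ↔ ∃ h : x ∈ H, f ⟨x, h⟩ ∈ R' := by rw [hR]; exact mem_pull H f R'
  have hRX : R ≤ X := by
    rw [hR, hX]
    exact Subgroup.map_mono (Subgroup.comap_mono hRX')
  have hXK : X ≤ K := by
    rw [hK, hX]
    exact Subgroup.map_mono (Subgroup.comap_mono hXK')
  have hconj : ∀ (k r : G) (hk : k ∈ H) (hr : r ∈ H),
      f ⟨k * r * k⁻¹, H.mul_mem (H.mul_mem hk hr) (H.inv_mem hk)⟩ =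
        f ⟨k, hk⟩ * f ⟨r, hr⟩ * (f ⟨k, hk⟩)⁻¹ := by
    intro k r hk hr
    rw [← map_inv, ← map_mul, ← map_mul]
    rfl
  have hKR : K ≤ Subgroup.normalizer (R : Set G) := by
    apply le_normalizer_of_conj_mem
    intro k hk r hr
    obtain ⟨hk1, hk2⟩ := (hmK k).mp hk
    obtain ⟨hr1, hr2⟩ := (hmR r).mp hr
    refine (hmR _).mpr ⟨H.mul_mem (H.mul_mem hk1 hr1) (H.inv_mem hk1), ?_⟩
    rw [hconj k r hk1 hr1]
    exact conj_mem_of_le_normalizer hKR' hk2 hr2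
  have hKX : K ≤ Subgroup.normalizer (X : Set G) := by
    apply le_normalizer_of_conj_mem
    intro k hk r hr
    obtain ⟨hk1, hk2⟩ := (hmK k).mp hk
    obtain ⟨hr1, hr2⟩ := (hmX r).mp hr
    refine (hmX _).mpr ⟨H.mul_mem (H.mul_mem hk1 hr1) (H.inv_mem hk1), ?_⟩
    rw [hconj k r hk1 hr1]
    exact conj_mem_of_le_normalizer hKX' hk2 hr2
  have hpow : ∀ x ∈ X, ∃ k : ℕ, x ^ p ^ k ∈ R := by
    intro x hx
    obtain ⟨hx1, hx2⟩ := (hmX x).mp hx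
    obtain ⟨k, hk⟩ := hpow' _ hx2
    refine ⟨k, (hmR _).mpr ⟨H.pow_mem hx1 _, ?_⟩⟩
    rw [← map_pow] at hk
    exact hk
  have hg : (g₀ : G) ∈ K := (hmK _).mpr ⟨g₀.2, hg'⟩
  have hquad : ⁅⁅X, Subgroup.zpowers (g₀ : G)⁆, Subgroup.zpowers (g₀ : G)⁆ ≤ R := by
    have e1 : Subgroup.zpowers (g₀ : G) = (Subgroup.zpowers g₀).map H.subtype := by
      rw [MonoidHom.map_zpowers]
      rfl
    rw [e1, hX, hR, ← Subgroup.map_commutator, ← Subgroup.map_commutator]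
    apply Subgroup.map_mono
    rw [← Subgroup.map_le_iff_le_comap, Subgroup.map_commutator, Subgroup.map_commutator,
      MonoidHom.map_zpowers, Subgroup.map_comap_eq_self_of_surjective hf]
    exact hquad'
  obtain ⟨D, hDK, hKD, hgD, hD⟩ := hG K X R hRX hXK hKR hKX hpow (g₀ : G) hg hquad
  refine ⟨(D.subgroupOf H).map f, ?_, ?_, ⟨g₀, hgD, rfl⟩, ?_⟩
  · rintro _ ⟨d₀, hd₀, rfl⟩
    obtain ⟨h1, h2⟩ := (hmK _).mp (hDK (Subgroup.mem_subgroupOf.mp hd₀))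
    exact h2
  · apply le_normalizer_of_conj_mem
    intro k' hk' d' hd'
    obtain ⟨k₀, rfl⟩ := hf k'
    obtain ⟨d₀, hd₀, rfl⟩ := hd'
    refine ⟨k₀ * d₀ * k₀⁻¹, ?_, by rw [map_mul, map_mul, map_inv]⟩
    show k₀ * d₀ * k₀⁻¹ ∈ D.subgroupOf H
    rw [Subgroup.mem_subgroupOf]
    have hk₀ : (k₀ : G) ∈ K := (hmK _).mpr ⟨k₀.2, hk'⟩
    exact conj_mem_of_le_normalizer hKD hk₀ (Subgroup.mem_subgroupOf.mp hd₀)
  · rintro _ ⟨d₀, hd₀, rfl⟩
    obtain ⟨k, hk⟩ := hD (d₀ : G) (Subgroup.mem_subgroupOf.mp hd₀)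
    refine ⟨k, fun x' hx' => ?_⟩
    obtain ⟨x₀, rfl⟩ := hf x'
    have h1 := hk (x₀ : G) ((hmX _).mpr ⟨x₀.2, hx'⟩)
    obtain ⟨h2, h3⟩ := (hmR _).mp h1
    have e : (⟨⁅(x₀ : G), (d₀ : G) ^ p ^ k⁆, h2⟩ : ↥H) = ⁅x₀, d₀ ^ p ^ k⁆ := Subtype.ext rfl
    rw [e, map_commutatorElement, map_pow] at h3
    exact h3

/-- The normalizer form of `p`-stability of all sections gives `QStab`. -/
theorem qstab_of_sections {p : ℕ} [Fact p.Prime] {G : Type u} [Group G] [Finite G]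
    (hst : ∀ (K R : Subgroup G) [hR : (R.subgroupOf K).Normal],
      Cfsg.IsNormalizerPStable p (↥K ⧸ R.subgroupOf K)) : QStab p G := by
  intro K X R hRX hXK hKR hKX hpow g hg hquad
  haveI hRn : (R.subgroupOf K).Normal := Subgroup.normal_subgroupOf_of_le_normalizer hKR
  have hXn : (X.subgroupOf K).Normal := Subgroup.normal_subgroupOf_of_le_normalizer hKX
  obtain ⟨π, hπ⟩ : ∃ π : ↥K →* ↥K ⧸ R.subgroupOf K, π = QuotientGroup.mk' (R.subgroupOf K) :=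
    ⟨_, rfl⟩
  have hπs : Function.Surjective π := by
    rw [hπ]
    exact QuotientGroup.mk'_surjective _
  have hπ1 : ∀ x : ↥K, π x = 1 ↔ (x : G) ∈ R := by
    intro x
    rw [hπ, QuotientGroup.mk'_apply, QuotientGroup.eq_one_iff, Subgroup.mem_subgroupOf]
  obtain ⟨P, hP⟩ : ∃ P : Subgroup (↥K ⧸ R.subgroupOf K), P = (X.subgroupOf K).map π := ⟨_, rfl⟩
  have hPp : IsPGroup p ↥P := by
    rintro ⟨y, hy⟩
    rw [hP] at hy
    obtain ⟨x₀, hx₀, rfl⟩ := hy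
    obtain ⟨k, hk⟩ := hpow (x₀ : G) (Subgroup.mem_subgroupOf.mp hx₀)
    refine ⟨k, Subtype.ext ?_⟩
    show (π x₀) ^ p ^ k = 1
    rw [← map_pow, hπ1]
    exact hk
  have hPn : P.Normal := by
    rw [hP]
    exact hXn.map π hπs
  have hNtop : Subgroup.normalizer (P : Set (↥K ⧸ R.subgroupOf K)) = ⊤ :=
    Subgroup.normalizer_eq_top_iff.mpr hPn
  have hmemN : ∀ x : ↥K, π x ∈ Subgroup.normalizer (P : Set (↥K ⧸ R.subgroupOf K)) := by
    intro x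
    rw [hNtop]
    exact Subgroup.mem_top _
  have hq : ⁅⁅P, Subgroup.zpowers (π ⟨g, hg⟩)⁆, Subgroup.zpowers (π ⟨g, hg⟩)⁆ = ⊥ := by
    rw [hP, ← MonoidHom.map_zpowers, ← Subgroup.map_commutator, ← Subgroup.map_commutator,
      eq_bot_iff, Subgroup.map_le_iff_le_comap]
    have e0 : (⊥ : Subgroup (↥K ⧸ R.subgroupOf K)).comap π = R.subgroupOf K := by
      ext x
      rw [Subgroup.mem_comap, Subgroup.mem_bot, hπ1, Subgroup.mem_subgroupOf]
    rw [e0]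
    show _ ≤ R.comap K.subtype
    rw [← Subgroup.map_le_iff_le_comap, Subgroup.map_commutator, Subgroup.map_commutator,
      MonoidHom.map_zpowers, Subgroup.map_subgroupOf_eq_of_le hXK]
    exact hquad
  have h1 := hst K R P hPp (π ⟨g, hg⟩) (hmemN _) hq
  obtain ⟨ψ, hψ⟩ : ∃ ψ : ↥K →* ↥(Subgroup.normalizer (P : Set (↥K ⧸ R.subgroupOf K))) ⧸
      (Subgroup.centralizer (P : Set (↥K ⧸ R.subgroupOf K))).subgroupOf
        (Subgroup.normalizer (P : Set (↥K ⧸ R.subgroupOf K))),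
      ∀ x : ↥K, ψ x = QuotientGroup.mk (⟨π x, hmemN x⟩ :
        ↥(Subgroup.normalizer (P : Set (↥K ⧸ R.subgroupOf K)))) :=
    ⟨(QuotientGroup.mk' _).comp (π.codRestrict _ hmemN), fun _ => rfl⟩
  have hOp := Cfsg.Agent.Lib.Helper9.pCore_isPGroup p
    (↥(Subgroup.normalizer (P : Set (↥K ⧸ R.subgroupOf K))) ⧸
      (Subgroup.centralizer (P : Set (↥K ⧸ R.subgroupOf K))).subgroupOf
        (Subgroup.normalizer (P : Set (↥K ⧸ R.subgroupOf K))))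
  haveI hOn := Cfsg.Agent.Lib.Helper12.SylowBasic.pCore_normal'
    (G := (↥(Subgroup.normalizer (P : Set (↥K ⧸ R.subgroupOf K))) ⧸
      (Subgroup.centralizer (P : Set (↥K ⧸ R.subgroupOf K))).subgroupOf
        (Subgroup.normalizer (P : Set (↥K ⧸ R.subgroupOf K))))) p
  refine ⟨((pCore p _).comap ψ).map K.subtype, Subgroup.map_subtype_le _, ?_, ?_, ?_⟩
  · apply le_normalizer_of_conj_mem
    rintro k hk _ ⟨d₀, hd₀, rfl⟩
    refine ⟨⟨k, hk⟩ * d₀ * ⟨k, hk⟩⁻¹, ?_, rfl⟩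
    show ψ (⟨k, hk⟩ * d₀ * ⟨k, hk⟩⁻¹) ∈ pCore p _
    rw [map_mul, map_mul, map_inv]
    exact hOn.conj_mem _ hd₀ _
  · refine ⟨⟨g, hg⟩, ?_, rfl⟩
    show ψ ⟨g, hg⟩ ∈ pCore p _
    rw [hψ]
    exact h1
  · rintro _ ⟨d₀, hd₀, rfl⟩
    have hd₀' : ψ d₀ ∈ pCore p _ := hd₀
    obtain ⟨k, hk⟩ := hOp ⟨ψ d₀, hd₀'⟩
    have hk' : (ψ d₀) ^ p ^ k = 1 := congrArg Subtype.val hk
    rw [← map_pow, hψ, QuotientGroup.eq_one_iff, Subgroup.mem_subgroupOf] at hk'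
    have hk2 : π (d₀ ^ p ^ k) ∈ Subgroup.centralizer (P : Set (↥K ⧸ R.subgroupOf K)) := hk'
    refine ⟨k, fun x hx => ?_⟩
    have hxP : π ⟨x, hXK hx⟩ ∈ P := by
      rw [hP]
      exact ⟨⟨x, hXK hx⟩, Subgroup.mem_subgroupOf.mpr hx, rfl⟩
    have h3 := (Subgroup.mem_centralizer_iff.mp hk2) _ hxP
    have h4 : π ⁅(⟨x, hXK hx⟩ : ↥K), d₀ ^ p ^ k⁆ = 1 := by
      rw [map_commutatorElement, commutatorElement_eq_one_iff_mul_comm]
      exact h3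
    exact (hπ1 _).mp h4

/-- Stability: if a `p`-power of `d` centralizes `N` and a `p`-power of `d` centralizes `M`
modulo the finite `p`-group `N`, then a `p`-power of `d` centralizes `M`. -/
theorem pc_stab {p : ℕ} [Fact p.Prime] {G : Type*} [Group G] (M N : Subgroup G) [Finite ↥N]
    (hNp : IsPGroup p ↥N) (d : G) (hdM : ∀ n : ℕ, ∀ t ∈ M, d ^ n * t * (d ^ n)⁻¹ ∈ M)
    (h1 : ∃ k : ℕ, ∀ x ∈ N, ⁅x, d ^ p ^ k⁆ = 1)
    (h2 : ∃ k : ℕ, ∀ x ∈ M, ⁅x, d ^ p ^ k⁆ ∈ N) :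
    ∃ k : ℕ, ∀ x ∈ M, ⁅x, d ^ p ^ k⁆ = 1 := by
  obtain ⟨k₁, h1⟩ := h1
  obtain ⟨k₂, h2⟩ := h2
  obtain ⟨m, hm⟩ := IsPGroup.iff_card.mp hNp
  have hfix := Cfsg.Agent.Lib.Helper12.ChainStab.pow_fix_step (MulAut.conj (d ^ p ^ k₂)) M N
    (fun x hx => by
      rw [MulAut.conj_apply]
      exact hdM _ x hx)
    (fun x hx => by
      rw [MulAut.conj_apply]
      have h3 := h2 x⁻¹ (M.inv_mem hx)
      have e : ⁅x⁻¹, d ^ p ^ k₂⁆ = x⁻¹ * (d ^ p ^ k₂ * x * (d ^ p ^ k₂)⁻¹) := by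
        simp only [commutatorElement_def]; group
      rwa [e] at h3)
    (p ^ k₁)
    (fun x hx => by
      rw [← map_pow, MulAut.conj_apply, ← pow_mul, mul_comm, pow_mul]
      have h3 : Commute x (d ^ p ^ k₁) := commutatorElement_eq_one_iff_commute.mp (h1 x hx)
      have h4 : Commute x ((d ^ p ^ k₁) ^ p ^ k₂) := h3.pow_right _
      rw [← h4.eq, mul_inv_cancel_right])
  refine ⟨k₂ + (k₁ + m), fun x hx => ?_⟩
  have h5 := hfix x hx
  rw [hm, ← map_pow, MulAut.conj_apply, ← pow_mul, ← pow_add, ← pow_add] at h5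
  rw [commutatorElement_eq_one_iff_mul_comm]
  exact (mul_inv_eq_iff_eq_mul.mp h5).symm

end Cfsg.Agent.Lib.Helper12.QStab
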