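import Mathlib
import Cfsg.Prelude.Def_ConjugacyFunctors
import Cfsg.Prelude.Def_LocalEven
import Cfsg.Agent.Lib.Helper9.Cores
import Cfsg.Agent.Lib.Helper12.SylowBasic
import Cfsg.Agent.Lib.Helper12.KInf
import Cfsg.Agent.Lib.Helper12.KInfCubic
import Cfsg.Agent.Lib.Helper12.Critical
import Cfsg.Agent.Lib.Helper12.QuarticFilt
import Cfsg.Agent.Lib.Helper12.QStab

set_option autoImplicit false

/-! K-infinity in `p`-stable groups: if all sections of the finite group `G` are `p`-stable (in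
the concrete form `QStab`) and `C_G(O_p(G)) ≤ O_p(G)`, then both K-infinity subgroups of a Sylow
`p`-subgroup of `G` are normal in `G` (`kinf_normal_of_stable`). -/

namespace Cfsg.Agent.Lib.Helper12.KInfStable

open Cfsg Cfsg.Agent.Lib.Helper12.KInf Cfsg.Agent.Lib.Helper12.KInfCubic
  Cfsg.Agent.Lib.Helper12.Critical Cfsg.Agent.Lib.Helper12.QuarticFilt
  Cfsg.Agent.Lib.Helper12.SylowBasic Cfsg.Agent.Lib.Helper12.QStab
open scoped commutatorElement

universe u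

/-! ### a finite group lemma -/

/-- If `O_p(Γ) = 1`, `N` and `Y` are normal subgroups of `Γ` centralizing each other and every
element of `Y` has a `p`-power in `N`, then `Y` has no nontrivial `p`-elements. -/
theorem eq_one_of_central_pquot {p : ℕ} [Fact p.Prime] {Γ : Type u} [Group Γ] [Finite Γ]
    (hΓ : pCore p Γ = ⊥) (N Y : Subgroup Γ) [hNn : N.Normal] [hYn : Y.Normal]
    (hYN : Y ≤ Subgroup.centralizer (N : Set Γ)) (hpow : ∀ y ∈ Y, ∃ k : ℕ, y ^ p ^ k ∈ N)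
    (y : Γ) (hy : y ∈ Y) (hyp : ∃ k : ℕ, y ^ p ^ k = 1) : y = 1 := by
  have hp : p.Prime := Fact.out
  haveI hZn : (N.subgroupOf Y).Normal := hNn.subgroupOf Y
  have hZc : N.subgroupOf Y ≤ Subgroup.center ↥Y := by
    intro z hz
    rw [Subgroup.mem_center_iff]
    intro w
    apply Subtype.ext
    show (w : Γ) * (z : Γ) = (z : Γ) * (w : Γ)
    exact ((Subgroup.mem_centralizer_iff.mp (hYN w.2)) (z : Γ) (Subgroup.mem_subgroupOf.mp hz)).symm
  have hQp : IsPGroup p (↥Y ⧸ N.subgroupOf Y) := by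
    intro q
    induction q using QuotientGroup.induction_on with
    | H w =>
      obtain ⟨k, hk⟩ := hpow (w : Γ) w.2
      refine ⟨k, ?_⟩
      rw [← QuotientGroup.mk_pow, QuotientGroup.eq_one_iff, Subgroup.mem_subgroupOf]
      exact hk
  obtain ⟨n, hn⟩ := IsPGroup.iff_card.mp hQp
  have hidx : (N.subgroupOf Y).index = p ^ n := by rw [Subgroup.index_eq_card, hn]
  obtain ⟨P₁⟩ : Nonempty (Sylow p ↥Y) := inferInstance
  have hP₁idx : ¬ p ∣ (P₁ : Subgroup ↥Y).index := P₁.not_dvd_index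
  have hsup : (P₁ : Subgroup ↥Y) ⊔ N.subgroupOf Y = ⊤ := by
    rw [← Subgroup.index_eq_one]
    have h1 : ((P₁ : Subgroup ↥Y) ⊔ N.subgroupOf Y).index ∣ (P₁ : Subgroup ↥Y).index :=
      Subgroup.index_dvd_of_le le_sup_left
    have h2 : ((P₁ : Subgroup ↥Y) ⊔ N.subgroupOf Y).index ∣ p ^ n := by
      rw [← hidx]
      exact Subgroup.index_dvd_of_le le_sup_right
    obtain ⟨j, -, hj⟩ := (Nat.dvd_prime_pow hp).mp h2
    rcases Nat.eq_zero_or_pos j with hj0 | hj0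
    · rw [hj, hj0, pow_zero]
    · exfalso
      apply hP₁idx
      refine dvd_trans ?_ h1
      rw [hj]
      exact dvd_pow_self p (Nat.pos_iff_ne_zero.mp hj0)
  have hP₁n : (P₁ : Subgroup ↥Y).Normal := by
    rw [← Subgroup.normalizer_eq_top_iff, eq_top_iff, ← hsup]
    exact sup_le Subgroup.le_normalizer (hZc.trans (Subgroup.center_le_normalizer _))
  haveI hP₁c : (P₁ : Subgroup ↥Y).Characteristic := Sylow.characteristic_of_normal P₁ hP₁n
  have hmapn : ((P₁ : Subgroup ↥Y).map Y.subtype).Normal := inferInstance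
  have hmapp : IsPGroup p ↥((P₁ : Subgroup ↥Y).map Y.subtype) := P₁.isPGroup'.map Y.subtype
  have hle := Cfsg.Agent.Lib.Helper9.le_pCore hmapn hmapp
  rw [hΓ, le_bot_iff, Subgroup.map_eq_bot_iff_of_injective _ Y.subtype_injective] at hle
  have hcard : ¬ p ∣ Nat.card ↥Y := by
    rw [hle, Subgroup.index_bot] at hP₁idx
    exact hP₁idx
  obtain ⟨k, hk⟩ := hyp
  have hk' : (⟨y, hy⟩ : ↥Y) ^ p ^ k = 1 := Subtype.ext hk
  have hord : orderOf (⟨y, hy⟩ : ↥Y) ∣ p ^ k := orderOf_dvd_of_pow_eq_one hk'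
  obtain ⟨j, -, hj⟩ := (Nat.dvd_prime_pow hp).mp hord
  have hj0 : j = 0 := by
    by_contra hne
    apply hcard
    have h1 : p ∣ orderOf (⟨y, hy⟩ : ↥Y) := by
      rw [hj]
      exact dvd_pow_self p hne
    exact h1.trans (orderOf_dvd_natCard _)
  rw [hj0, pow_zero, orderOf_eq_one_iff] at hj
  exact congrArg Subtype.val hj

/-! ### small lemmas on normalizers -/

theorem le_normalizer_inf {G : Type*} [Group G] {K D₁ D₂ : Subgroup G}
    (h1 : K ≤ Subgroup.normalizer (D₁ : Set G)) (h2 : K ≤ Subgroup.normalizer (D₂ : Set G)) :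
    K ≤ Subgroup.normalizer ((D₁ ⊓ D₂ : Subgroup G) : Set G) :=
  le_normalizer_of_conj_mem (fun _ hk _ hd =>
    ⟨conj_mem_of_le_normalizer h1 hk hd.1, conj_mem_of_le_normalizer h2 hk hd.2⟩)

theorem le_normalizer_center {G : Type*} [Group G] {Q B : Subgroup G}
    (hQ : Q ≤ Subgroup.normalizer (B : Set G)) :
    Q ≤ Subgroup.normalizer ((B ⊓ Subgroup.centralizer (B : Set G) : Subgroup G) : Set G) := by
  apply le_normalizer_of_conj_mem
  intro q hq z hz
  refine ⟨conj_mem_of_le_normalizer hQ hq hz.1, ?_⟩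
  show q * z * q⁻¹ ∈ Subgroup.centralizer (B : Set G)
  rw [Subgroup.mem_centralizer_iff]
  intro b hb
  have h1 : q⁻¹ * b * q⁻¹⁻¹ ∈ B := conj_mem_of_le_normalizer hQ (Q.inv_mem hq) hb
  have h2 := (Subgroup.mem_centralizer_iff.mp hz.2) _ h1
  have e1 : b * (q * z * q⁻¹) = q * ((q⁻¹ * b * q⁻¹⁻¹) * z) * q⁻¹ := by group
  have e2 : q * z * q⁻¹ * b = q * (z * (q⁻¹ * b * q⁻¹⁻¹)) * q⁻¹ := by group
  rw [e1, e2, h2]

/-! ### the setting -/

/-- `G` is `p`-stable (all sections), `C_G(O_p(G)) ≤ O_p(G)`, and `A` is a normal subgroup of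
critical type inside `O_p(G)`. -/
structure Setting (p : ℕ) (G : Type u) [Group G] (A : Subgroup G) : Prop where
  hst : QStab p G
  hC : Subgroup.centralizer ((pCore p G : Subgroup G) : Set G) ≤ pCore p G
  hAn : A.Normal
  hAT : A ≤ pCore p G
  hA2 : ⁅A, A⁆ ≤ Subgroup.centralizer (A : Set G)
  hA3 : ⁅pCore p G, A⁆ ≤ A ⊓ Subgroup.centralizer (A : Set G)
  hA4 : pCore p G ⊓ Subgroup.centralizer (A : Set G) ≤ A

section core

variable {p : ℕ} [Fact p.Prime] {G : Type u} [Group G] [Finite G]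

theorem ppow_T (x : G) (hx : x ∈ pCore p G) : ∃ k : ℕ, x ^ p ^ k = 1 := by
  obtain ⟨k, hk⟩ := (Cfsg.Agent.Lib.Helper9.pCore_isPGroup p G) ⟨x, hx⟩
  exact ⟨k, congrArg Subtype.val hk⟩

theorem hsub (C F : Subgroup G) [hCn : C.Normal] (hFC : F ≤ C)
    (hCF : C ≤ Subgroup.normalizer (F : Set G)) (hF : ∀ d ∈ F, ∃ k : ℕ, d ^ p ^ k = 1) :
    F ≤ pCore p G := by
  have hn : (F.subgroupOf C).Normal := Subgroup.normal_subgroupOf_of_le_normalizer hCF
  have hpg : IsPGroup p ↥(F.subgroupOf C) := by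
    rintro ⟨d, hd⟩
    obtain ⟨k, hk⟩ := hF (d : G) (Subgroup.mem_subgroupOf.mp hd)
    exact ⟨k, Subtype.ext (Subtype.ext hk)⟩
  have h1 : F.subgroupOf C ≤ pCore p ↥C := Cfsg.Agent.Lib.Helper9.le_pCore hn hpg
  have h2 := Cfsg.Agent.Lib.Helper9.pCore_subtype_le p C
  calc F = (F.subgroupOf C).map C.subtype := (Subgroup.map_subgroupOf_eq_of_le hFC).symm
    _ ≤ (pCore p ↥C).map C.subtype := Subgroup.map_mono h1
    _ ≤ pCore p G := h2

variable {A : Subgroup G} (h : Setting p G A)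

include h

theorem pel_of_cent (x : G) (hx : x ∈ Subgroup.centralizer (A : Set G)) :
    ∃ k : ℕ, x ^ p ^ k = 1 := by
  haveI := h.hAn
  haveI hTn : (pCore p G).Normal := pCore_normal' p
  have hNp : IsPGroup p ↥(pCore p G ⊓ Subgroup.centralizer (A : Set G)) :=
    (Cfsg.Agent.Lib.Helper9.pCore_isPGroup p G).to_le inf_le_left
  obtain ⟨k, hk⟩ := pc_stab (pCore p G) (pCore p G ⊓ Subgroup.centralizer (A : Set G)) hNp x
    (fun n t ht => hTn.conj_mem t ht _)
    ⟨0, fun y hy => by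
      rw [pow_zero, pow_one, commutatorElement_eq_one_iff_mul_comm]
      exact (Subgroup.mem_centralizer_iff.mp hx) y (h.hA4 hy)⟩
    ⟨0, fun t ht => by
      rw [pow_zero, pow_one]
      constructor
      · have e : ⁅t, x⁆ = t * (x * t⁻¹ * x⁻¹) := by simp only [commutatorElement_def]; group
        rw [e]
        exact (pCore p G).mul_mem ht (hTn.conj_mem _ ((pCore p G).inv_mem ht) x)
      · have e : ⁅t, x⁆ = (t * x * t⁻¹) * x⁻¹ := by simp only [commutatorElement_def]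
        rw [e]
        exact Subgroup.mul_mem _ (Subgroup.Normal.conj_mem inferInstance x hx t)
          (Subgroup.inv_mem _ hx)⟩
  have h1 : x ^ p ^ k ∈ pCore p G := h.hC (Subgroup.mem_centralizer_iff.mpr
    (fun t ht => commutatorElement_eq_one_iff_mul_comm.mp (hk t ht)))
  obtain ⟨k', hk'⟩ := ppow_T (x ^ p ^ k) h1
  exact ⟨k + k', by rw [pow_add, pow_mul]; exact hk'⟩

theorem pel_of_pc1 (d : G) (h1 : ∃ k : ℕ, ∀ x ∈ A, ⁅x, d ^ p ^ k⁆ ∈ (⊥ : Subgroup G)) :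
    ∃ k : ℕ, d ^ p ^ k = 1 := by
  obtain ⟨k, hk⟩ := h1
  obtain ⟨k', hk'⟩ := pel_of_cent h (d ^ p ^ k) (Subgroup.mem_centralizer_iff.mpr
    (fun t ht => commutatorElement_eq_one_iff_mul_comm.mp (Subgroup.mem_bot.mp (hk t ht))))
  exact ⟨k + k', by rw [pow_add, pow_mul]; exact hk'⟩

theorem pel_of_pc2 (N : Subgroup G) (hNA : N ≤ A) (d : G)
    (h1 : ∃ k : ℕ, ∀ x ∈ N, ⁅x, d ^ p ^ k⁆ ∈ (⊥ : Subgroup G))
    (h2 : ∃ k : ℕ, ∀ x ∈ A, ⁅x, d ^ p ^ k⁆ ∈ N) : ∃ k : ℕ, d ^ p ^ k = 1 := by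
  have hNp : IsPGroup p ↥N :=
    (Cfsg.Agent.Lib.Helper9.pCore_isPGroup p G).to_le (hNA.trans h.hAT)
  obtain ⟨k₁, hk₁⟩ := h1
  obtain ⟨k, hk⟩ := pc_stab A N hNp d (fun n t ht => h.hAn.conj_mem t ht _)
    ⟨k₁, fun x hx => Subgroup.mem_bot.mp (hk₁ x hx)⟩ h2
  obtain ⟨k', hk'⟩ := pel_of_cent h (d ^ p ^ k) (Subgroup.mem_centralizer_iff.mpr
    (fun t ht => commutatorElement_eq_one_iff_mul_comm.mp (hk t ht)))
  exact ⟨k + k', by rw [pow_add, pow_mul]; exact hk'⟩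

theorem mem_of_quad (g : G) (hq : ⁅⁅A, Subgroup.zpowers g⁆, Subgroup.zpowers g⁆ = ⊥) :
    g ∈ pCore p G := by
  haveI := h.hAn
  obtain ⟨D, -, hKD, hgD, hD⟩ := h.hst ⊤ A ⊥ bot_le le_top
    (Subgroup.normalizer_eq_top_iff.mpr inferInstance).ge
    (Subgroup.normalizer_eq_top_iff.mpr h.hAn).ge
    (fun x hx => by
      obtain ⟨k, hk⟩ := ppow_T x (h.hAT hx)
      exact ⟨k, by rw [hk]; exact Subgroup.one_mem _⟩)
    g (Subgroup.mem_top g) hq.le
  exact hsub ⊤ D le_top hKD (fun d hd => pel_of_pc1 h d (hD d hd)) hgD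

theorem mem_of_quad2 (g : G)
    (hq1 : ⁅⁅A ⊓ Subgroup.centralizer (A : Set G), Subgroup.zpowers g⁆, Subgroup.zpowers g⁆ = ⊥)
    (hq2 : ⁅⁅A, Subgroup.zpowers g⁆, Subgroup.zpowers g⁆ ≤
      A ⊓ Subgroup.centralizer (A : Set G)) : g ∈ pCore p G := by
  haveI := h.hAn
  have hZn : (A ⊓ Subgroup.centralizer (A : Set G)).Normal := inferInstance
  obtain ⟨D₁, -, hKD₁, hgD₁, hD₁⟩ := h.hst ⊤ (A ⊓ Subgroup.centralizer (A : Set G)) ⊥ bot_le
    le_top (Subgroup.normalizer_eq_top_iff.mpr inferInstance).ge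
    (Subgroup.normalizer_eq_top_iff.mpr hZn).ge
    (fun x hx => by
      obtain ⟨k, hk⟩ := ppow_T x (h.hAT hx.1)
      exact ⟨k, by rw [hk]; exact Subgroup.one_mem _⟩)
    g (Subgroup.mem_top g) hq1.le
  obtain ⟨D₂, -, hKD₂, hgD₂, hD₂⟩ := h.hst ⊤ A (A ⊓ Subgroup.centralizer (A : Set G))
    inf_le_left le_top (Subgroup.normalizer_eq_top_iff.mpr hZn).ge
    (Subgroup.normalizer_eq_top_iff.mpr h.hAn).ge
    (fun x hx => by
      obtain ⟨k, hk⟩ := ppow_T x (h.hAT hx)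
      exact ⟨k, by rw [hk]; exact Subgroup.one_mem _⟩)
    g (Subgroup.mem_top g) hq2
  exact hsub ⊤ (D₁ ⊓ D₂) le_top (le_normalizer_inf hKD₁ hKD₂)
    (fun d hd => pel_of_pc2 h _ inf_le_left d (hD₁ d hd.1) (hD₂ d hd.2)) ⟨hgD₁, hgD₂⟩

theorem upper_le {Q B : Subgroup G} (hB : B ∈ kUpperStarFamily Q) (hAQ : A ≤ Q) :
    B ≤ pCore p G := by
  intro b hb
  exact mem_of_quad h b
    (quad_of_comm_le B A ((Subgroup.commutator_mono le_rfl hAQ).trans hB.2) b hb)

theorem A_mem_lower' (Q : Subgroup G) : A ∈ kLowerStarFamily Q := by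
  haveI := h.hAn
  refine ⟨h.hA2, ?_, ?_⟩
  · rw [Subgroup.normalizer_eq_top]
    exact le_top
  · intro A' hA' _ hAn' hc1 hc2
    have hA'T : A' ≤ pCore p G := by
      intro a ha
      have haA : Subgroup.zpowers a ≤ A' := Subgroup.zpowers_le.mpr ha
      apply mem_of_quad2 h
      · rw [eq_bot_iff, ← hc2]
        exact Subgroup.commutator_mono (Subgroup.commutator_mono le_rfl haA) haA
      · have h1 : ⁅A, A'⁆ ≤ A' := comm_le_of_le_normalizer hAn'
        have h2 : ⁅⁅A, Subgroup.zpowers a⁆, Subgroup.zpowers a⁆ ≤ ⁅A', A'⁆ :=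
          Subgroup.commutator_mono ((Subgroup.commutator_mono le_rfl haA).trans h1) haA
        have h3 : ⁅⁅A, Subgroup.zpowers a⁆, Subgroup.zpowers a⁆ ≤ A :=
          (Subgroup.commutator_mono (Subgroup.commutator_le_left A _) le_rfl).trans
            (Subgroup.commutator_le_left A _)
        have h4 : ⁅A', A'⁆ ≤ Subgroup.centralizer (A : Set G) :=
          Subgroup.le_centralizer_iff.mp (Subgroup.commutator_eq_bot_iff_le_centralizer.mp hc1)
        exact le_inf h3 (h2.trans h4)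
    calc ⁅A, A'⁆ ≤ ⁅A, pCore p G⁆ := Subgroup.commutator_mono le_rfl hA'T
      _ = ⁅pCore p G, A⁆ := Subgroup.commutator_comm _ _
      _ ≤ _ := h.hA3

theorem lower_le {Q B : Subgroup G} (hB : B ∈ kLowerStarFamily Q) (hAQ : A ≤ Q)
    (hBp : ∀ b ∈ B, ∃ k : ℕ, b ^ p ^ k = 1) : B ≤ pCore p G := by
  haveI hAn := h.hAn
  haveI hTn : (pCore p G).Normal := pCore_normal' p
  have hB1 : ⁅B, B⁆ ≤ Subgroup.centralizer (B : Set G) := hB.1
  have hAZB : A ≤ Subgroup.normalizer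
      ((B ⊓ Subgroup.centralizer (B : Set G) : Subgroup G) : Set G) :=
    le_normalizer_center (hAQ.trans hB.2.1)
  have hZBT : B ⊓ Subgroup.centralizer (B : Set G) ≤ pCore p G := by
    intro z hz
    apply mem_of_quad h
    have hzZ : Subgroup.zpowers z ≤ B ⊓ Subgroup.centralizer (B : Set G) :=
      Subgroup.zpowers_le.mpr hz
    rw [eq_bot_iff, ← center_abelian B]
    exact Subgroup.commutator_mono
      ((Subgroup.commutator_mono le_rfl hzZ).trans (comm_le_of_le_normalizer hAZB)) hzZ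
  have hA'A : ⁅A, A⁆ ≤ A := Subgroup.commutator_le_left A A
  have hCA : Subgroup.centralizer (A : Set G) ≤
      Subgroup.centralizer ((⁅A, A⁆ : Subgroup G) : Set G) :=
    Subgroup.centralizer_le (SetLike.coe_subset_coe.mpr hA'A)
  have hA'ab : ⁅⁅A, A⁆, ⁅A, A⁆⁆ = ⊥ :=
    Subgroup.commutator_eq_bot_iff_le_centralizer.mpr (h.hA2.trans hCA)
  have hTA : ⁅pCore p G, A⁆ ≤ Subgroup.centralizer (A : Set G) := h.hA3.trans inf_le_right
  have hTC : pCore p G ≤ Subgroup.centralizer ((⁅A, A⁆ : Subgroup G) : Set G) := by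
    have e1 : ⁅⁅A, pCore p G⁆, A⁆ = ⊥ := by
      rw [Subgroup.commutator_eq_bot_iff_le_centralizer, Subgroup.commutator_comm]
      exact hTA
    have e2 : ⁅⁅pCore p G, A⁆, A⁆ = ⊥ := Subgroup.commutator_eq_bot_iff_le_centralizer.mpr hTA
    have e3 : ⁅⁅A, A⁆, pCore p G⁆ = ⊥ := Subgroup.commutator_commutator_eq_bot_of_rotate e1 e2
    exact Subgroup.le_centralizer_iff.mp (Subgroup.commutator_eq_bot_iff_le_centralizer.mp e3)
  intro b hb
  have hbB : Subgroup.zpowers b ≤ B := Subgroup.zpowers_le.mpr hb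
  have hq1 : ⁅⁅⁅A, A⁆, Subgroup.zpowers b⁆, Subgroup.zpowers b⁆ = ⊥ :=
    quad_of_comm_le B ⁅A, A⁆ (lower_abelian_normal hB ⁅A, A⁆ hA'ab (hA'A.trans hAQ)) b hb
  obtain ⟨G₁, -, hG₁n, hbG₁, hG₁⟩ := h.hst ⊤ ⁅A, A⁆ ⊥ bot_le le_top
    (Subgroup.normalizer_eq_top_iff.mpr inferInstance).ge
    (Subgroup.normalizer_eq_top_iff.mpr inferInstance).ge
    (fun x hx => by
      obtain ⟨k, hk⟩ := ppow_T x (h.hAT (hA'A hx))
      exact ⟨k, by rw [hk]; exact Subgroup.one_mem _⟩)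
    b (Subgroup.mem_top b) hq1.le
  obtain ⟨A₁, hA₁⟩ := exists_commSub A (fun _ : Unit => A)
    (fun _ => ⁅A, A⁆ ⊓ Subgroup.centralizer (B : Set G))
    (fun _ t ht y hy => by
      have h1 := (Subgroup.mem_centralizer_iff.mp (h.hA2 hy.1)) t ht
      have e : t * y * t⁻¹ = y := by rw [h1, mul_inv_cancel_right]
      rw [e]
      exact hy)
  have hA₁A : A₁ ≤ A := fun t ht => ((hA₁ t).mp ht).1
  have hconjA₁ : ∀ x : G,
      (∀ y ∈ ⁅A, A⁆ ⊓ Subgroup.centralizer (B : Set G), x * y = y * x) →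
      ∀ t ∈ A₁, x * t * x⁻¹ ∈ A₁ := by
    intro x hx t ht
    obtain ⟨ht1, ht2⟩ := (hA₁ t).mp ht
    refine (hA₁ _).mpr ⟨hAn.conj_mem t ht1 x, fun _ a ha => ?_⟩
    have h1 := ht2 () (x⁻¹ * a * x⁻¹⁻¹) (hAn.conj_mem a ha x⁻¹)
    have e : ⁅a, x * t * x⁻¹⁆ = x * ⁅x⁻¹ * a * x⁻¹⁻¹, t⁆ * x⁻¹ := by
      simp only [commutatorElement_def]; group
    rw [e, hx _ h1, mul_inv_cancel_right]
    exact h1
  obtain ⟨H, hH⟩ : ∃ H : Subgroup G,
      H = Subgroup.centralizer ((⁅A, A⁆ : Subgroup G) : Set G) ⊔ B := ⟨_, rfl⟩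
  have hCH : Subgroup.centralizer ((⁅A, A⁆ : Subgroup G) : Set G) ≤ H := hH ▸ le_sup_left
  have hBH : B ≤ H := hH ▸ le_sup_right
  have hHA₁ : H ≤ Subgroup.normalizer (A₁ : Set G) := by
    rw [hH]
    apply sup_le
    · apply le_normalizer_of_conj_mem
      intro c hc t ht
      exact hconjA₁ c (fun y hy => ((Subgroup.mem_centralizer_iff.mp hc) y hy.1).symm) t ht
    · apply le_normalizer_of_conj_mem
      intro c hc t ht
      exact hconjA₁ c (fun y hy => (Subgroup.mem_centralizer_iff.mp hy.2) c hc) t ht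
  have hCAA₁ : Subgroup.centralizer (A : Set G) ≤ Subgroup.centralizer (A₁ : Set G) :=
    Subgroup.centralizer_le (SetLike.coe_subset_coe.mpr hA₁A)
  have hA₁2 : A₁ ∈ classTwoSubgroups G := by
    show ⁅A₁, A₁⁆ ≤ Subgroup.centralizer (A₁ : Set G)
    exact (Subgroup.commutator_mono hA₁A hA₁A).trans (h.hA2.trans hCAA₁)
  have hcomm1 : ⁅B, ⁅A₁, A₁⁆⁆ = ⊥ := by
    rw [Subgroup.commutator_eq_bot_iff_le_centralizer, Subgroup.le_centralizer_iff,
      Subgroup.commutator_le]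
    intro a ha t ht
    exact (((hA₁ t).mp ht).2 () a (hA₁A ha)).2
  have hcomm2 : ⁅⁅B ⊓ Subgroup.centralizer (B : Set G), A₁⁆, A₁⁆ = ⊥ := by
    rw [Subgroup.commutator_eq_bot_iff_le_centralizer]
    exact (Subgroup.commutator_mono hZBT hA₁A).trans (hTA.trans hCAA₁)
  have hlow := hB.2.2 A₁ hA₁2 (hA₁A.trans hAQ) (hBH.trans hHA₁) hcomm1 hcomm2
  have hq2 : ⁅⁅A₁, Subgroup.zpowers b⁆, Subgroup.zpowers b⁆ = ⊥ := quad_of_comm_le B A₁ hlow b hb
  have hAB : ⁅A, B⁆ ≤ B := comm_le_of_le_normalizer (hAQ.trans hB.2.1)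
  have hBB : ⁅B, B⁆ ≤ B := comm_le_of_le_normalizer Subgroup.le_normalizer
  have hq3 : ⁅⁅A, Subgroup.zpowers b⁆, Subgroup.zpowers b⁆ ≤ A₁ := by
    have h1 : ⁅⁅A, Subgroup.zpowers b⁆, Subgroup.zpowers b⁆ ≤ ⁅⁅A, B⁆, B⁆ :=
      Subgroup.commutator_mono (Subgroup.commutator_mono le_rfl hbB) hbB
    have h2 : ⁅⁅A, B⁆, B⁆ ≤ A :=
      (Subgroup.commutator_mono (Subgroup.commutator_le_left A B) le_rfl).trans
        (Subgroup.commutator_le_left A B)
    have h3 : ⁅⁅A, B⁆, B⁆ ≤ B ⊓ Subgroup.centralizer (B : Set G) :=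
      (Subgroup.commutator_mono hAB le_rfl).trans (le_inf hBB hB1)
    intro w hw
    have hwA : w ∈ A := h2 (h1 hw)
    have hwZ : w ∈ B ⊓ Subgroup.centralizer (B : Set G) := h3 (h1 hw)
    refine (hA₁ w).mpr ⟨hwA, fun _ a ha => ⟨Subgroup.commutator_mem_commutator ha hwA, ?_⟩⟩
    have h4 : a * w * a⁻¹ ∈ B ⊓ Subgroup.centralizer (B : Set G) :=
      conj_mem_of_le_normalizer hAZB ha hwZ
    have e : ⁅a, w⁆ = (a * w * a⁻¹) * w⁻¹ := by simp only [commutatorElement_def]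
    rw [e]
    exact (Subgroup.mul_mem _ h4 (Subgroup.inv_mem _ hwZ)).2
  have hbH : b ∈ H := hBH hb
  have hAH : A ≤ H := h.hAT.trans (hTC.trans hCH)
  obtain ⟨D₃, hD₃H, hHD₃, hbD₃, hD₃⟩ := h.hst H A₁ ⊥ bot_le (hA₁A.trans hAH)
    (le_trans le_top (Subgroup.normalizer_eq_top_iff.mpr inferInstance).ge)
    hHA₁
    (fun x hx => by
      obtain ⟨k, hk⟩ := ppow_T x (h.hAT (hA₁A hx))
      exact ⟨k, by rw [hk]; exact Subgroup.one_mem _⟩)
    b hbH hq2.le
  obtain ⟨D₄, hD₄H, hHD₄, hbD₄, hD₄⟩ := h.hst H A A₁ hA₁A hAH hHA₁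
    (le_trans le_top (Subgroup.normalizer_eq_top_iff.mpr hAn).ge)
    (fun x hx => by
      obtain ⟨k, hk⟩ := ppow_T x (h.hAT hx)
      exact ⟨k, by rw [hk]; exact Subgroup.one_mem _⟩)
    b hbH hq3
  have hDpel : ∀ d ∈ D₃ ⊓ D₄, ∃ k : ℕ, d ^ p ^ k = 1 :=
    fun d hd => pel_of_pc2 h A₁ hA₁A d (hD₃ d hd.1) (hD₄ d hd.2)
  have hFT : (D₃ ⊓ D₄) ⊓ Subgroup.centralizer ((⁅A, A⁆ : Subgroup G) : Set G) ≤ pCore p G := by
    apply hsub (Subgroup.centralizer ((⁅A, A⁆ : Subgroup G) : Set G)) _ inf_le_right _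
      (fun d hd => hDpel d hd.1)
    apply le_normalizer_of_conj_mem
    intro c hc f hf
    exact ⟨⟨conj_mem_of_le_normalizer hHD₃ (hCH hc) hf.1.1,
      conj_mem_of_le_normalizer hHD₄ (hCH hc) hf.1.2⟩,
      Subgroup.mul_mem _ (Subgroup.mul_mem _ hc hf.2) (Subgroup.inv_mem _ hc)⟩
  have hcomm : ∀ c ∈ Subgroup.centralizer ((⁅A, A⁆ : Subgroup G) : Set G),
      ⁅c, b⁆ ∈ pCore p G := by
    intro c hc
    apply hFT
    have e : ⁅c, b⁆ = (c * b * c⁻¹) * b⁻¹ := by simp only [commutatorElement_def]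
    refine ⟨⟨?_, ?_⟩, ?_⟩
    · rw [e]
      exact D₃.mul_mem (conj_mem_of_le_normalizer hHD₃ (hCH hc) hbD₃) (D₃.inv_mem hbD₃)
    · rw [e]
      exact D₄.mul_mem (conj_mem_of_le_normalizer hHD₄ (hCH hc) hbD₄) (D₄.inv_mem hbD₄)
    · have e' : ⁅c, b⁆ = c * (b * c⁻¹ * b⁻¹) := by simp only [commutatorElement_def]; group
      rw [e']
      exact Subgroup.mul_mem _ hc
        (Subgroup.Normal.conj_mem inferInstance _ (Subgroup.inv_mem _ hc) b)
  obtain ⟨π, hπ⟩ : ∃ π : G →* G ⧸ pCore p G, π = QuotientGroup.mk' (pCore p G) := ⟨_, rfl⟩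
  have hπs : Function.Surjective π := hπ ▸ QuotientGroup.mk'_surjective _
  have hπ1 : ∀ x : G, π x = 1 ↔ x ∈ pCore p G := by
    intro x
    rw [hπ, QuotientGroup.mk'_apply, QuotientGroup.eq_one_iff]
  haveI hNn : ((Subgroup.centralizer ((⁅A, A⁆ : Subgroup G) : Set G)).map π).Normal :=
    Subgroup.Normal.map inferInstance π hπs
  have hG₁normal : G₁.Normal := Subgroup.normalizer_eq_top_iff.mp (top_le_iff.mp hG₁n)
  haveI hG₁n' : (G₁.map π).Normal := hG₁normal.map π hπs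
  have hfin := eq_one_of_central_pquot (Cfsg.Agent.Lib.Helper9.pCore_quotient_eq_bot p G)
    ((Subgroup.centralizer ((⁅A, A⁆ : Subgroup G) : Set G)).map π)
    (G₁.map π ⊓ Subgroup.centralizer
      (((Subgroup.centralizer ((⁅A, A⁆ : Subgroup G) : Set G)).map π :
        Subgroup (G ⧸ pCore p G)) : Set (G ⧸ pCore p G)))
    inf_le_right
    (by
      rintro y ⟨⟨d, hd, rfl⟩, -⟩
      obtain ⟨k, hk⟩ := hG₁ d hd
      refine ⟨k, d ^ p ^ k, ?_, map_pow _ _ _⟩
      exact Subgroup.mem_centralizer_iff.mpr (fun t ht =>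
        commutatorElement_eq_one_iff_mul_comm.mp (Subgroup.mem_bot.mp (hk t ht))))
    (π b)
    ⟨⟨b, hbG₁, rfl⟩, by
      show π b ∈ Subgroup.centralizer
        (((Subgroup.centralizer ((⁅A, A⁆ : Subgroup G) : Set G)).map π :
          Subgroup (G ⧸ pCore p G)) : Set (G ⧸ pCore p G))
      rw [Subgroup.mem_centralizer_iff]
      rintro _ ⟨c, hc, rfl⟩
      rw [← commutatorElement_eq_one_iff_mul_comm, ← map_commutatorElement, hπ1]
      exact hcomm c hc⟩
    (by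
      obtain ⟨k, hk⟩ := hBp b hb
      exact ⟨k, by rw [← map_pow, hk, map_one]⟩)
  exact (hπ1 b).mp hfin

end core

/-! ### the K-sequence -/

theorem families_le' {X : Type*} [Group X] (A T : Subgroup X)
    (hA2 : A ∈ classTwoSubgroups X)
    (hA3 : ⁅T, A⁆ ≤ A ⊓ Subgroup.centralizer (A : Set X))
    (hlow : ∀ Q B : Subgroup X, A ≤ Q → B ∈ kLowerStarFamily Q → B ≤ T)
    (hup : ∀ Q B : Subgroup X, A ≤ Q → B ∈ kUpperStarFamily Q → B ≤ T)
    (hAl : ∀ Q : Subgroup X, A ∈ kLowerStarFamily Q) (n : ℕ) :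
    A ≤ kSeqOdd X n ∧ kSeqEven X n ≤ T ∧ kSeqOdd X (n + 1) ≤ T := by
  have step : ∀ n, A ≤ kSeqOdd X n →
      kSeqEven X n ≤ T ∧ kSeqOdd X (n + 1) ≤ T ∧ A ≤ kSeqOdd X (n + 1) := by
    intro n hA
    have hE : kSeqEven X n ≤ T := by
      rw [kSeqEven_def]
      exact sSup_le (fun B hB => hlow _ B hA hB)
    have hAE : A ≤ kSeqEven X n := le_sSup (hAl _)
    have hO : kSeqOdd X (n + 1) ≤ T := by
      show sSup (kUpperStarFamily (kSeqEven X n)) ≤ T
      exact sSup_le (fun B hB => hup _ B hAE hB)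
    refine ⟨hE, hO, ?_⟩
    show A ≤ sSup (kUpperStarFamily (kSeqEven X n))
    apply le_sSup
    refine ⟨hA2, ?_⟩
    calc ⁅A, kSeqEven X n⁆ ≤ ⁅A, T⁆ := Subgroup.commutator_mono le_rfl hE
      _ = ⁅T, A⁆ := Subgroup.commutator_comm _ _
      _ ≤ _ := hA3
  induction n with
  | zero =>
    have h0 : A ≤ kSeqOdd X 0 := le_top
    exact ⟨h0, (step 0 h0).1, (step 0 h0).2.1⟩
  | succ n ih =>
    have h1 : A ≤ kSeqOdd X (n + 1) := (step n ih.1).2.2
    exact ⟨h1, (step (n + 1) h1).1, (step (n + 1) h1).2.1⟩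

/-- In a finite group all of whose sections are `p`-stable, with `C_G(O_p(G)) ≤ O_p(G)`, both
K-infinity subgroups of a Sylow `p`-subgroup are normal. -/
theorem kinf_normal_of_stable {p : ℕ} [Fact p.Prime] {G : Type u} [Group G] [Finite G]
    (hst : QStab p G)
    (hC : Subgroup.centralizer ((pCore p G : Subgroup G) : Set G) ≤ pCore p G)
    (S : Sylow p G) :
    ((kInfLower ↥(S : Subgroup G)).map (S : Subgroup G).subtype).Normal ∧
      ((kInfUpper ↥(S : Subgroup G)).map (S : Subgroup G).subtype).Normal := by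
  haveI hTn : (pCore p G).Normal := pCore_normal' p
  have hTS : pCore p G ≤ (S : Subgroup G) := pCore_le_sylow S
  have hTp : IsPGroup p ↥(pCore p G) := S.isPGroup'.to_le hTS
  obtain ⟨A, hAn, hAT, hA2, hA3, hA4⟩ := exists_critical (pCore p G) hTp
  haveI := hAn
  have h : Setting p G A := ⟨hst, hC, hAn, hAT, hA2, hA3, hA4⟩
  have hAS : A ≤ (S : Subgroup G) := hAT.trans hTS
  have hinj : Function.Injective (S : Subgroup G).subtype := (S : Subgroup G).subtype_injective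
  have hAmap : (A.subgroupOf (S : Subgroup G)).map (S : Subgroup G).subtype = A :=
    Subgroup.map_subgroupOf_eq_of_le hAS
  have hTmap : ((pCore p G).subgroupOf (S : Subgroup G)).map (S : Subgroup G).subtype =
      pCore p G := Subgroup.map_subgroupOf_eq_of_le hTS
  have hZmap : ((A.subgroupOf (S : Subgroup G)) ⊓ Subgroup.centralizer
      ((A.subgroupOf (S : Subgroup G) : Subgroup ↥(S : Subgroup G)) :
        Set ↥(S : Subgroup G))).map (S : Subgroup G).subtype =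
      A ⊓ Subgroup.centralizer (A : Set G) := by
    rw [map_inf_centralizer (S : Subgroup G).subtype hinj, hAmap]
  have hA2' : A.subgroupOf (S : Subgroup G) ∈ classTwoSubgroups ↥(S : Subgroup G) := by
    show ⁅A.subgroupOf (S : Subgroup G), A.subgroupOf (S : Subgroup G)⁆ ≤
      Subgroup.centralizer ((A.subgroupOf (S : Subgroup G) : Subgroup ↥(S : Subgroup G)) :
        Set ↥(S : Subgroup G))
    rw [← map_le_centralizer_map_iff (S : Subgroup G).subtype hinj, Subgroup.map_commutator,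
      hAmap]
    exact hA2
  have hA3' : ⁅(pCore p G).subgroupOf (S : Subgroup G), A.subgroupOf (S : Subgroup G)⁆ ≤
      A.subgroupOf (S : Subgroup G) ⊓ Subgroup.centralizer
        ((A.subgroupOf (S : Subgroup G) : Subgroup ↥(S : Subgroup G)) :
          Set ↥(S : Subgroup G)) := by
    rw [← Subgroup.map_le_map_iff_of_injective hinj, Subgroup.map_commutator, hZmap, hTmap,
      hAmap]
    exact hA3
  have hpS : ∀ B : Subgroup ↥(S : Subgroup G), ∀ b ∈ B.map (S : Subgroup G).subtype,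
      ∃ k : ℕ, b ^ p ^ k = 1 := by
    rintro B _ ⟨b, -, rfl⟩
    obtain ⟨k, hk⟩ := S.isPGroup' b
    exact ⟨k, by rw [← map_pow, hk, map_one]⟩
  have hlow' : ∀ Q B : Subgroup ↥(S : Subgroup G), A.subgroupOf (S : Subgroup G) ≤ Q →
      B ∈ kLowerStarFamily Q → B ≤ (pCore p G).subgroupOf (S : Subgroup G) := by
    intro Q B hAQ hB
    have h1 : B.map (S : Subgroup G).subtype ∈
        kLowerStarFamily (Q.map (S : Subgroup G).subtype) :=
      (mem_lower_map_iff (S : Subgroup G).subtype hinj B Q).mpr hB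
    have h2 : A ≤ Q.map (S : Subgroup G).subtype := by
      rw [← hAmap]
      exact Subgroup.map_mono hAQ
    have h4 := lower_le h h1 h2 (hpS B)
    intro b hb
    exact Subgroup.mem_subgroupOf.mpr (h4 ⟨b, hb, rfl⟩)
  have hup' : ∀ Q B : Subgroup ↥(S : Subgroup G), A.subgroupOf (S : Subgroup G) ≤ Q →
      B ∈ kUpperStarFamily Q → B ≤ (pCore p G).subgroupOf (S : Subgroup G) := by
    intro Q B hAQ hB
    have h1 : B.map (S : Subgroup G).subtype ∈
        kUpperStarFamily (Q.map (S : Subgroup G).subtype) :=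
      (mem_upper_map_iff (S : Subgroup G).subtype hinj B Q).mpr hB
    have h2 : A ≤ Q.map (S : Subgroup G).subtype := by
      rw [← hAmap]
      exact Subgroup.map_mono hAQ
    have h4 := upper_le h h1 h2
    intro b hb
    exact Subgroup.mem_subgroupOf.mpr (h4 ⟨b, hb, rfl⟩)
  have hAl' : ∀ Q : Subgroup ↥(S : Subgroup G),
      A.subgroupOf (S : Subgroup G) ∈ kLowerStarFamily Q := by
    intro Q
    apply (mem_lower_map_iff (S : Subgroup G).subtype hinj _ Q).mp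
    rw [hAmap]
    exact A_mem_lower' h _
  have hfam := families_le' (A.subgroupOf (S : Subgroup G))
    ((pCore p G).subgroupOf (S : Subgroup G)) hA2' hA3' hlow' hup' hAl'
  have hrange : ∀ B : Subgroup ↥(S : Subgroup G), B ≤ (pCore p G).subgroupOf (S : Subgroup G) →
      B ≤ (Subgroup.inclusion hTS).range := by
    intro B hB b hb
    exact ⟨⟨(b : G), Subgroup.mem_subgroupOf.mp (hB hb)⟩, Subtype.ext rfl⟩
  have hmk := map_kInf (Subgroup.inclusion hTS) (Subgroup.inclusion_injective hTS)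
    (fun n => hrange _ (hfam n).2.1)
    (hrange _ ((iInf_le _ 1).trans (hfam 0).2.2))
  have hL : (kInfLower ↥(S : Subgroup G)).map (S : Subgroup G).subtype =
      (kInfLower ↥(pCore p G)).map (pCore p G).subtype := by
    rw [← hmk.1, Subgroup.map_map]
    rfl
  have hU : (kInfUpper ↥(S : Subgroup G)).map (S : Subgroup G).subtype =
      (kInfUpper ↥(pCore p G)).map (pCore p G).subtype := by
    rw [← hmk.2, Subgroup.map_map]
    rfl
  constructor
  · rw [hL]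
    exact induced_normal kInfLower (isChar_kInfLower p) (pCore p G) hTp
  · rw [hU]
    exact induced_normal kInfUpper (isChar_kInfUpper p) (pCore p G) hTp

end Cfsg.Agent.Lib.Helper12.KInfStable
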